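import Mathlib
import Cfsg.Prelude.Def_Sporadic_a
import Cfsg.Prelude.Def_Spor_Mathieu
import Cfsg.Agent.Lib.helper4.ElemClass

set_option autoImplicit false

namespace Cfsg.Agent.Lib.Helper26.SB

open Cfsg Cfsg.Agent.Lib.helper4 Cfsg.Agent.Lib.Helper12.Golay

/-- Conjugation-invariant test (fixed points of `y`, fixed points of `y * y`) used for `M24`:
the cycle types `1^8 2^8`, `2 4 6 12`, `2^2 10^2`, `2^4 4^4`. -/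
def inY24 (L : List ℕ) : Bool :=
  (fixCount L == 8 && fixCount (compTbl L L) == 24) ||
    (fixCount L == 0 && (fixCount (compTbl L L) == 2 || fixCount (compTbl L L) == 4 ||
      fixCount (compTbl L L) == 8))

/-- Conjugation-invariant test used for `M22`: the cycle types `1^8 2^8` and `1^4 5^4`. -/
def inY22 (L : List ℕ) : Bool :=
  (fixCount L == 8 && fixCount (compTbl L L) == 24) ||
    (fixCount L == 4 && fixCount (compTbl L L) == 4)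

/-- Representatives (function tables) of the 13 classes of elements of odd order of `M24`:
`1A, 3A, 3B, 5A, 7A, 7B, 11A, 15A, 15B, 21A, 21B, 23A, 23B`. -/
def reps24 : List (List ℕ) := [
  [0, 1, 2, 3, 4, 5, 6, 7, 8, 9, 10, 11, 12, 13, 14, 15, 16, 17, 18, 19, 20, 21, 22, 23],
  [23, 7, 3, 16, 22, 11, 6, 13, 4, 21, 10, 15, 12, 1, 14, 5, 2, 17, 9, 19, 0, 18, 8, 20],
  [14, 18, 19, 16, 20, 17, 10, 2, 3, 15, 23, 0, 1, 5, 11, 22, 8, 13, 12, 7, 21, 4, 9, 6],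
  [16, 11, 1, 3, 4, 5, 20, 15, 13, 18, 22, 8, 7, 2, 14, 0, 12, 9, 23, 17, 21, 10, 6, 19],
  [20, 4, 8, 19, 16, 14, 6, 5, 9, 10, 22, 13, 1, 2, 21, 0, 15, 7, 18, 17, 12, 3, 11, 23],
  [15, 12, 13, 21, 1, 7, 6, 17, 2, 8, 9, 22, 20, 11, 5, 16, 4, 19, 18, 3, 0, 14, 10, 23],
  [11, 21, 23, 2, 1, 14, 5, 16, 13, 17, 10, 8, 3, 15, 0, 4, 18, 22, 12, 19, 9, 6, 7, 20],
  [15, 23, 16, 7, 12, 21, 5, 17, 4, 10, 1, 11, 2, 0, 6, 18, 13, 3, 20, 14, 22, 19, 9, 8],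
  [13, 10, 12, 17, 8, 6, 14, 3, 23, 22, 9, 11, 4, 16, 19, 0, 2, 7, 15, 21, 18, 5, 20, 1],
  [23, 5, 0, 19, 17, 15, 16, 22, 7, 12, 4, 10, 21, 2, 6, 18, 14, 9, 20, 11, 13, 8, 1, 3],
  [2, 22, 13, 23, 10, 1, 14, 8, 21, 17, 11, 19, 9, 20, 16, 5, 6, 4, 15, 3, 18, 12, 7, 0],
  [1, 8, 23, 17, 9, 6, 10, 15, 21, 2, 11, 19, 3, 13, 7, 0, 20, 14, 5, 16, 12, 22, 4, 18],
  [15, 0, 9, 12, 22, 18, 5, 14, 1, 4, 6, 10, 20, 13, 17, 7, 19, 3, 23, 11, 16, 8, 21, 2]]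

/-- Representatives (function tables) of the 7 classes of elements of odd order of `M22`
(the stabiliser of the points `23 = ∞` and `0`): `1A, 3A, 5A, 7A, 7B, 11A, 11B`. -/
def reps22 : List (List ℕ) := [
  [0, 1, 2, 3, 4, 5, 6, 7, 8, 9, 10, 11, 12, 13, 14, 15, 16, 17, 18, 19, 20, 21, 22, 23],
  [0, 3, 13, 9, 21, 20, 15, 7, 5, 1, 6, 4, 12, 19, 17, 10, 16, 22, 18, 2, 8, 11, 14, 23],
  [0, 21, 16, 4, 6, 11, 14, 3, 18, 8, 1, 15, 5, 10, 7, 17, 9, 12, 2, 13, 20, 19, 22, 23],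
  [0, 22, 12, 9, 20, 7, 1, 15, 19, 18, 14, 13, 6, 8, 2, 16, 4, 5, 11, 3, 17, 21, 10, 23],
  [0, 13, 21, 17, 20, 12, 18, 7, 1, 16, 19, 9, 11, 15, 2, 14, 6, 10, 5, 22, 3, 8, 4, 23],
  [0, 21, 22, 11, 1, 2, 4, 19, 7, 10, 16, 13, 18, 12, 20, 6, 15, 14, 8, 5, 9, 17, 3, 23],
  [0, 12, 16, 13, 10, 8, 7, 4, 20, 18, 14, 2, 6, 1, 9, 22, 5, 15, 3, 21, 17, 11, 19, 23]]

end Cfsg.Agent.Lib.Helper26.SB
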