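import Mathlib
import Cfsg.Prelude.Def_Blocks
import Cfsg.Agent.S0906
import Cfsg.Agent.S0908
import Cfsg.Agent.S0924
import Cfsg.Agent.Lib.helper7.Q8Cent
import Cfsg.Agent.Lib.helper7.BlockEval
import Cfsg.Agent.Lib.helper4.ElemClassB
import Cfsg.Agent.Lib.Helper26.SB.Defs
import Cfsg.Agent.Lib.Helper24.SBT1
import Cfsg.Agent.Lib.Helper24.SBT2
import Cfsg.Agent.Lib.Helper26.SBLA
import Cfsg.Agent.Lib.Helper25.SBLB
import Cfsg.Agent.Lib.Lead.SBC24
import Cfsg.Agent.Lib.Helper26.SBC22M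
import Cfsg.Agent.Lib.Helper12.SBN24
import Cfsg.Agent.Lib.Helper12.SBN22

set_option autoImplicit false

namespace Cfsg.Agent.Lib.Helper26.SB

open Cfsg Cfsg.Agent.Lib.helper4 Cfsg.Agent.Lib.Helper12.Golay
open scoped Pointwise

/-! ## Assembly -/

open Cfsg.Agent.Lib.helper7 in
/-- Assembly: the single-block criterion. -/
theorem single_block {G : Type*} [Group G] [Finite G] (M : Ideal Cfsg.AlgInt)
    (hM : Cfsg.IsPModular 2 M)
    (hloc : ∀ t : G, orderOf t = 2 → ∃ Q : Subgroup G, IsPGroup 2 Q ∧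
      Subgroup.centralizer ({t} : Set G) ≤ Subgroup.normalizer (Q : Set G) ∧
      ∀ y : G, Commute y t → (∀ q ∈ Q, Commute y q) → ¬ 2 ∣ orderOf y → y = 1)
    (X Y : Set G)
    (hXc : ∀ x ∈ X, ∀ g : G, g * x * g⁻¹ ∈ X)
    (hYc : ∀ y ∈ Y, ∀ g : G, g * y * g⁻¹ ∈ Y)
    (hX2 : ∀ x ∈ X, 2 ∣ orderOf x)
    (hN1 : Odd (Nat.card {x : G // x ∈ X ∧ x⁻¹ ∈ Y}))
    (hN0 : ∀ g : G, g ≠ 1 → ¬ 2 ∣ orderOf g → Even (Nat.card {x : G // x ∈ X ∧ x⁻¹ * g ∈ Y}))
    (χ ψ : Cfsg.IrrCharacter G) : Cfsg.SameBlock M (χ : G → ℂ) (ψ : G → ℂ) := by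
  have : Fact (Nat.Prime 2) := ⟨Nat.prime_two⟩
  have hP : M.IsPrime := hM.2.1.isPrime
  have key : ∀ χ : Cfsg.IrrCharacter G, Cfsg.SameBlock M (χ : G → ℂ) (fun _ => 1) := by
    intro χ
    have hB : Cfsg.IsPBlock M (Cfsg.blockOf M (χ : G → ℂ)) := ⟨χ, rfl⟩
    obtain ⟨g, hg⟩ := Cfsg.Agent.S0906.result 2 M hM _ hB
    obtain ⟨P⟩ : Nonempty (Sylow 2 (Subgroup.centralizer ({g} : Set G))) := inferInstance
    have hD : Cfsg.IsDefectGroup 2 M (Cfsg.blockOf M (χ : G → ℂ))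
        ((P : Subgroup (Subgroup.centralizer ({g} : Set G))).map
          (Subgroup.centralizer ({g} : Set G)).subtype) := ⟨g, hg, P, rfl⟩
    by_cases hD1 : (P : Subgroup (Subgroup.centralizer ({g} : Set G))).map
          (Subgroup.centralizer ({g} : Set G)).subtype = ⊥
    · exfalso
      have hcard := Cfsg.Agent.S0908.result 2 M hM _ hB _ hD
      rw [hD1, Subgroup.card_bot] at hcard
      have hvan : ∀ u : G, 2 ∣ orderOf u → (χ : G → ℂ) u = 0 := by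
        intro u hu
        obtain ⟨x, hx⟩ := h7_exists_isPPart 2 u
        refine Cfsg.Agent.S0924.result 2 M hM χ u x hx ?_
        intro D' hD' hxD'
        have hc' := Cfsg.Agent.S0908.result 2 M hM _ hB D' hD'
        rw [← hcard] at hc'
        have hbot : D' = ⊥ := Subgroup.card_eq_one.mp hc'
        rw [hbot, Subgroup.mem_bot] at hxD'
        obtain ⟨y, hxy, -, -, hy⟩ := hx
        rw [hxD', one_mul] at hxy
        rw [hxy] at hy
        exact hy hu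
      exact no_vanishing_char χ hvan X Y hXc hYc hX2 hN1 hN0
    · exact principal_of_local M hM hloc χ _ hD hD1
  intro g
  have h := h7_memLocalIdeal_add hP (key χ g) (h7_memLocalIdeal_neg (key ψ g))
  have e : Cfsg.centralChar (χ : G → ℂ) g - Cfsg.centralChar (fun _ => (1 : ℂ)) g +
      -(Cfsg.centralChar (ψ : G → ℂ) g - Cfsg.centralChar (fun _ => (1 : ℂ)) g) =
      Cfsg.centralChar (χ : G → ℂ) g - Cfsg.centralChar (ψ : G → ℂ) g := by ring
  rwa [e] at h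

/-! ## Assembly, part 2: permutation groups on the 24 points -/

theorem validT_range : ValidT (List.range 24) := by decide

theorem fperm_range : fperm (List.range 24) = 1 :=
  (eq_fperm_of_tblOf validT_range tblOf_one).symm

theorem card_conj_general {G : Type*} [Group G] (X Y : Set G)
    (hXc : ∀ x ∈ X, ∀ g : G, g * x * g⁻¹ ∈ X) (hYc : ∀ y ∈ Y, ∀ g : G, g * y * g⁻¹ ∈ Y)
    (w g : G) :
    Nat.card {x : G // x ∈ X ∧ x⁻¹ * g ∈ Y} =
      Nat.card {x : G // x ∈ X ∧ x⁻¹ * (w * g * w⁻¹) ∈ Y} := by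
  refine Nat.card_congr (Equiv.subtypeEquiv (MulAut.conj w).toEquiv ?_)
  intro x
  have e : (w * x * w⁻¹)⁻¹ * (w * g * w⁻¹) = w * (x⁻¹ * g) * w⁻¹ := by group
  show x ∈ X ∧ x⁻¹ * g ∈ Y ↔ w * x * w⁻¹ ∈ X ∧ (w * x * w⁻¹)⁻¹ * (w * g * w⁻¹) ∈ Y
  rw [e]
  constructor
  · rintro ⟨h1, h2⟩
    exact ⟨hXc x h1 w, hYc _ h2 w⟩
  · rintro ⟨h1, h2⟩
    have h1' := hXc _ h1 w⁻¹
    have h2' := hYc _ h2 w⁻¹
    have e1 : w⁻¹ * (w * x * w⁻¹) * w⁻¹⁻¹ = x := by group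
    have e2 : w⁻¹ * (w * (x⁻¹ * g) * w⁻¹) * w⁻¹⁻¹ = x⁻¹ * g := by group
    rw [e1] at h1'
    rw [e2] at h2'
    exact ⟨h1', h2'⟩

theorem card_conv (H : Subgroup (Equiv.Perm GolayPt)) (inY : List ℕ → Bool) (g : ↥H) :
    Nat.card {x : ↥H // x ∈ {x : ↥H | (x : Equiv.Perm GolayPt) * x = 1 ∧
        (x : Equiv.Perm GolayPt) ≠ 1 ∧ ∃ p, (x : Equiv.Perm GolayPt) p = p} ∧
        x⁻¹ * g ∈ {y : ↥H | inY (tblOf (y : Equiv.Perm GolayPt)) = true}} =
      Nat.card {x : Equiv.Perm GolayPt // x ∈ H ∧ x * x = 1 ∧ x ≠ 1 ∧ (∃ p, x p = p) ∧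
        inY (tblOf (x * (g : Equiv.Perm GolayPt))) = true} := by
  have hinv : ∀ x : Equiv.Perm GolayPt, x * x = 1 → x⁻¹ = x := fun x hx =>
    inv_eq_of_mul_eq_one_left hx
  refine Nat.card_congr ⟨fun x => ⟨x.1.1, x.1.2, x.2.1.1, x.2.1.2.1, x.2.1.2.2, ?_⟩,
    fun x => ⟨⟨x.1, x.2.1⟩, ⟨x.2.2.1, x.2.2.2.1, x.2.2.2.2.1⟩, ?_⟩, ?_, ?_⟩
  · have h := x.2.2
    simp only [Set.mem_ofPred_eq, Subgroup.coe_mul, Subgroup.coe_inv] at h
    rwa [hinv _ x.2.1.1] at h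
  · simp only [Set.mem_ofPred_eq, Subgroup.coe_mul, Subgroup.coe_inv]
    rw [hinv _ x.2.2.1]
    exact x.2.2.2.2.2
  · intro x
    rfl
  · intro x
    rfl

/-- The criterion for subgroups of `Perm GolayPt`. -/
theorem perm_single_block (H : Subgroup (Equiv.Perm GolayPt)) (inY : List ℕ → Bool)
    (reps : List (List ℕ))
    (hYinv : ∀ g k : Equiv.Perm GolayPt, inY (tblOf (k * g * k⁻¹)) = inY (tblOf g))
    (hloc : ∀ t ∈ H, t * t = 1 → t ≠ 1 → ∃ Q : Subgroup (Equiv.Perm GolayPt), Q ≤ H ∧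
      (∀ q ∈ Q, q * q = 1) ∧ (∀ g ∈ H, g * t = t * g → ∀ q ∈ Q, g * q * g⁻¹ ∈ Q) ∧
      (∀ y ∈ H, y * t = t * y → (∀ q ∈ Q, y * q = q * y) → y ∈ Q))
    (hC : ∀ g ∈ H, ¬ 2 ∣ orderOf g → ∃ w ∈ H, ∃ R ∈ reps, w * g * w⁻¹ = fperm R)
    (hid : List.range 24 ∈ reps)
    (hpar : ∀ R ∈ reps, Nat.card {x : Equiv.Perm GolayPt // x ∈ H ∧ x * x = 1 ∧ x ≠ 1 ∧
      (∃ p, x p = p) ∧ inY (tblOf (x * fperm R)) = true} % 2 =
        if R = List.range 24 then 1 else 0)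
    (M : Ideal Cfsg.AlgInt) (hM : Cfsg.IsPModular 2 M) (χ ψ : Cfsg.IrrCharacter ↥H) :
    Cfsg.SameBlock M (χ : ↥H → ℂ) (ψ : ↥H → ℂ) := by
  have hXc : ∀ x ∈ {x : ↥H | (x : Equiv.Perm GolayPt) * x = 1 ∧
        (x : Equiv.Perm GolayPt) ≠ 1 ∧ ∃ p, (x : Equiv.Perm GolayPt) p = p},
      ∀ g : ↥H, g * x * g⁻¹ ∈ {x : ↥H | (x : Equiv.Perm GolayPt) * x = 1 ∧
        (x : Equiv.Perm GolayPt) ≠ 1 ∧ ∃ p, (x : Equiv.Perm GolayPt) p = p} := by
    rintro x ⟨hx2, hx1, p, hp⟩ g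
    simp only [Set.mem_ofPred_eq, Subgroup.coe_mul, Subgroup.coe_inv]
    refine ⟨?_, ?_, (g : Equiv.Perm GolayPt) p, ?_⟩
    · calc (g : Equiv.Perm GolayPt) * x * (g : Equiv.Perm GolayPt)⁻¹ *
          ((g : Equiv.Perm GolayPt) * x * (g : Equiv.Perm GolayPt)⁻¹) =
          (g : Equiv.Perm GolayPt) * ((x : Equiv.Perm GolayPt) * x) *
            (g : Equiv.Perm GolayPt)⁻¹ := by group
        _ = 1 := by rw [hx2]; group
    · intro h
      apply hx1
      calc (x : Equiv.Perm GolayPt) = (g : Equiv.Perm GolayPt)⁻¹ *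
          ((g : Equiv.Perm GolayPt) * x * (g : Equiv.Perm GolayPt)⁻¹) * g := by group
        _ = 1 := by rw [h]; group
    · simp [Equiv.Perm.mul_apply, hp]
  have hYc : ∀ y ∈ {y : ↥H | inY (tblOf (y : Equiv.Perm GolayPt)) = true},
      ∀ g : ↥H, g * y * g⁻¹ ∈ {y : ↥H | inY (tblOf (y : Equiv.Perm GolayPt)) = true} := by
    intro y hy g
    simp only [Set.mem_ofPred_eq, Subgroup.coe_mul, Subgroup.coe_inv] at hy ⊢
    rw [hYinv]
    exact hy
  refine single_block M hM ?_ {x : ↥H | (x : Equiv.Perm GolayPt) * x = 1 ∧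
      (x : Equiv.Perm GolayPt) ≠ 1 ∧ ∃ p, (x : Equiv.Perm GolayPt) p = p}
    {y : ↥H | inY (tblOf (y : Equiv.Perm GolayPt)) = true} hXc hYc ?_ ?_ ?_ χ ψ
  · -- local structure
    intro t ht
    have h2 : (t : Equiv.Perm GolayPt) * t = 1 := by
      have := pow_orderOf_eq_one t
      rw [ht, pow_two] at this
      exact congrArg Subtype.val this
    have h1 : (t : Equiv.Perm GolayPt) ≠ 1 := by
      intro h
      have : t = 1 := Subtype.ext h
      rw [this, orderOf_one] at ht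
      norm_num at ht
    obtain ⟨Q, hQH, hQ2, hQn, hQc⟩ := hloc t.1 t.2 h2 h1
    refine ⟨Q.subgroupOf H, ?_, ?_, ?_⟩
    · intro q
      refine ⟨1, ?_⟩
      rw [pow_one, pow_two]
      apply Subtype.ext
      apply Subtype.ext
      exact hQ2 _ (Subgroup.mem_subgroupOf.mp q.2)
    · intro g hg
      rw [Subgroup.mem_centralizer_iff] at hg
      have hgt : (g : Equiv.Perm GolayPt) * t = t * g := by
        have := hg t rfl
        exact (congrArg Subtype.val this).symm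
      have hgt' : (g : Equiv.Perm GolayPt)⁻¹ * t = t * (g : Equiv.Perm GolayPt)⁻¹ := by
        rw [inv_mul_eq_iff_eq_mul, ← mul_assoc, hgt, mul_assoc, mul_inv_cancel, mul_one]
      rw [Subgroup.mem_normalizer_iff]
      intro q
      rw [Subgroup.mem_subgroupOf, Subgroup.mem_subgroupOf]
      simp only [Subgroup.coe_mul, Subgroup.coe_inv]
      constructor
      · intro hq
        exact hQn g.1 g.2 hgt _ hq
      · intro hq
        have := hQn (g : Equiv.Perm GolayPt)⁻¹ (H.inv_mem g.2) hgt' _ hq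
        have e : (g : Equiv.Perm GolayPt)⁻¹ * ((g : Equiv.Perm GolayPt) * q *
            (g : Equiv.Perm GolayPt)⁻¹) * (g : Equiv.Perm GolayPt)⁻¹⁻¹ = q := by group
        rwa [e] at this
    · intro y hyt hyQ hodd
      have hy : (y : Equiv.Perm GolayPt) ∈ Q := by
        refine hQc y.1 y.2 (congrArg Subtype.val hyt.eq) ?_
        intro q hq
        have := hyQ ⟨q, hQH hq⟩ (Subgroup.mem_subgroupOf.mpr hq)
        exact congrArg Subtype.val this.eq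
      have hy2 : y ^ 2 = 1 := by
        rw [pow_two]
        exact Subtype.ext (hQ2 _ hy)
      have hd : orderOf y ∣ 2 := orderOf_dvd_of_pow_eq_one hy2
      rcases (Nat.dvd_prime Nat.prime_two).mp hd with h | h
      · exact orderOf_eq_one_iff.mp h
      · exact absurd (h ▸ dvd_refl _) hodd
  · rintro x ⟨hx2, hx1, -⟩
    have hx2' : x ^ 2 = 1 := by
      rw [pow_two]
      exact Subtype.ext hx2
    have hx1' : x ≠ 1 := fun h => hx1 (congrArg Subtype.val h)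
    rw [orderOf_eq_prime hx2' hx1']
  · have h := hpar _ hid
    rw [if_pos rfl, fperm_range] at h
    have h' := card_conv H inY 1
    simp only [mul_one, OneMemClass.coe_one] at h'
    rw [Nat.odd_iff, h']
    exact h
  · intro g hg1 hodd
    have hodd' : ¬ 2 ∣ orderOf (g : Equiv.Perm GolayPt) := by
      rwa [Subgroup.orderOf_coe]
    obtain ⟨w, hw, R, hR, hwR⟩ := hC g.1 g.2 hodd'
    have hRne : R ≠ List.range 24 := by
      rintro rfl
      rw [fperm_range] at hwR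
      apply hg1
      apply Subtype.ext
      calc (g : Equiv.Perm GolayPt) = w⁻¹ * (w * g * w⁻¹) * w := by group
        _ = 1 := by rw [hwR]; group
    have h := hpar R hR
    rw [if_neg hRne] at h
    rw [card_conj_general _ _ hXc hYc ⟨w, hw⟩ g, card_conv H inY, Nat.even_iff]
    simp only [Subgroup.coe_mul, Subgroup.coe_inv]
    rw [hwR]
    exact h

/-! ## Assembly, part 3: `M24` and `M22` -/

theorem sq_conj (g k : Equiv.Perm GolayPt) :
    k * g * k⁻¹ * (k * g * k⁻¹) = k * (g * g) * k⁻¹ := by group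

theorem inY24_conj (g k : Equiv.Perm GolayPt) :
    inY24 (tblOf (k * g * k⁻¹)) = inY24 (tblOf g) := by
  unfold inY24
  rw [← tblOf_mul, ← tblOf_mul, sq_conj, fixCount_conj, fixCount_conj]

theorem inY22_conj (g k : Equiv.Perm GolayPt) :
    inY22 (tblOf (k * g * k⁻¹)) = inY22 (tblOf g) := by
  unfold inY22
  rw [← tblOf_mul, ← tblOf_mul, sq_conj, fixCount_conj, fixCount_conj]

theorem m24_single (M : Ideal Cfsg.AlgInt) (hM : Cfsg.IsPModular 2 M)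
    (χ ψ : Cfsg.IrrCharacter ↥Cfsg.M24) :
    Cfsg.SameBlock M (χ : ↥Cfsg.M24 → ℂ) (ψ : ↥Cfsg.M24 → ℂ) := by
  refine perm_single_block M24 inY24 reps24 inY24_conj ?_ class24 (by decide) parity24 M hM χ ψ
  intro t ht h2 h1
  by_cases hf : ∃ p, t p = p
  · obtain ⟨Q, hQ, -, hQ2, hQn, hQc⟩ := local2A t ht h2 h1 hf
    exact ⟨Q, hQ, hQ2, hQn, hQc⟩
  · push Not at hf
    exact local2B t ht h2 hf

theorem M22_le_M24 : Cfsg.Spor.M22 ≤ M24 := fun _ h => h.1.1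

theorem mem_M22_iff (g : Equiv.Perm GolayPt) :
    g ∈ Cfsg.Spor.M22 ↔ g ∈ M24 ∧ g none = none ∧ g (some 0) = some 0 := by
  unfold Cfsg.Spor.M22 Cfsg.Spor.M23
  rw [Subgroup.mem_inf, Subgroup.mem_inf, MulAction.mem_stabilizer_iff,
    MulAction.mem_stabilizer_iff, and_assoc]
  rfl

theorem m22_single (M : Ideal Cfsg.AlgInt) (hM : Cfsg.IsPModular 2 M)
    (χ ψ : Cfsg.IrrCharacter ↥Cfsg.Spor.M22) :
    Cfsg.SameBlock M (χ : ↥Cfsg.Spor.M22 → ℂ) (ψ : ↥Cfsg.Spor.M22 → ℂ) := by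
  refine perm_single_block Cfsg.Spor.M22 inY22 reps22 inY22_conj ?_ class22 (by decide) parity22
    M hM χ ψ
  intro t ht h2 h1
  obtain ⟨ht24, htn, ht0⟩ := (mem_M22_iff t).mp ht
  obtain ⟨Q, hQ, hQf, hQ2, hQn, hQc⟩ := local2A t ht24 h2 h1 ⟨none, htn⟩
  refine ⟨Q, ?_, hQ2, ?_, ?_⟩
  · intro q hq
    exact (mem_M22_iff q).mpr ⟨hQ hq, hQf q hq _ htn, hQf q hq _ ht0⟩
  · intro g hg
    exact hQn g (M22_le_M24 hg)
  · intro y hy
    exact hQc y (M22_le_M24 hy)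

end Cfsg.Agent.Lib.Helper26.SB
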